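import Groth.Agent.StFib.QuotBridgeMap
import Groth.Agent.StFib.SpTorsorDiag
import Groth.Agent.StFib.QuotEtaleDiag
import Groth.Agent.StFib.LqfSlice.Pairs
import Groth.Agent.S10527
import Groth.Agent.S10530
import Groth.Agent.S10542

/-!
# Charts of classifying stacks given by torsors with smooth total space
-/

set_option autoImplicit false
set_option linter.unusedVariables false
set_option backward.isDefEq.respectTransparency false
set_option backward.isDefEq.respectTransparency.types false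

universe u

open CategoryTheory CategoryTheory.Limits AlgebraicGeometry Opposite MonoidalCategory CartesianMonoidalCategory
  MonObj FibCat

namespace Groth.Agent.StFib.BGDiag

open QuotBr

variable {S : Scheme.{u}} {G : Over S} [GrpObj G] [IsAffineHom G.hom] [Flat G.hom]
  [LocallyOfFinitePresentation G.hom]

local notation "K" => Scheme.fppfPrecoverage

/-- A torsor with smooth surjective total space gives a smooth surjective chart of the classifying stack. -/
theorem exists_chart (A : AlgSt.QuotObj K G (AlgSt.trivAction G)) [Smooth A.P.hom] [Surjective A.P.hom] :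
    ∃ y : overCat A.base ⥤ᵇ AlgSt.BG K G,
      AlgSt.RepByAlgSpWith (AlgSp.LocP @Smooth) y ∧ AlgSt.RepByAlgSpWith AlgSp.IsSurjectiveMor y := by
  have hfg : IsFibGrpd (AlgSt.QuotSt K G (AlgSt.trivAction G)).p := (QuotBr.isStack (aX := AlgSt.trivAction G)).1
  obtain ⟨y, i, hi⟩ := exists_overFunctor hfg (𝒳 := AlgSt.QuotSt K G (AlgSt.trivAction G)) A rfl
  refine ⟨y, ?_⟩
  let X₀ := (toH S).obj (𝟙_ (Over S))
  let q := AlgSt.spQuotMap K ((toH S).obj G) (actH (AlgSt.trivAction G))
  let y' := BasedFunctor.comp y (E (AlgSt.trivAction G))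
  obtain ⟨e, he, -⟩ := SpTors.exists_fp_quotMap (G := (toH S).obj G) (aX := actH (AlgSt.trivAction G)) y'
  let A' := y'.obj (Over.mk (𝟙 A.base))
  have hA' : AlgSp.IsAlgSpace A'.P.left := SpTors.isAlgSpace_torsor isAlgSpace_hS (isAlgSpace_toH G) A'
  -- the total space
  let k : A' ≅ (E (AlgSt.trivAction G)).obj A := (E (AlgSt.trivAction G)).toFunctor.mapIso i
  have k1 : k.hom.top ≫ k.inv.top = 𝟙 A'.P :=
    congrArg AlgSt.SpQuotObj.Hom.top k.hom_inv_id
  have k2 : k.inv.top ≫ k.hom.top = 𝟙 ((toH S).obj A.P) :=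
    congrArg AlgSt.SpQuotObj.Hom.top k.inv_hom_id
  let φP : A'.P.left ≅ (AlgSp.yon S).obj A.P := (Over.forget _).mapIso ⟨k.hom.top, k.inv.top, k1, k2⟩
  let pr : A.P ⟶ 𝟙_ (Over S) := toUnit _
  have hterm : IsTerminal X₀.left := IsTerminal.isTerminalObj (AlgSp.yon S) _ Over.mkIdTerminal
  let m : A'.P.left ⟶ X₀.left := φP.hom ≫ (AlgSp.yon S).map pr
  obtain ⟨j⟩ := exists_iso_pshMap (P := A'.P.left.obj) (Q := X₀.left.obj) (BasedFunctor.comp e (fpSnd y' q))
  have hm : (⟨pshMap (P := A'.P.left.obj) (Q := X₀.left.obj) (BasedFunctor.comp e (fpSnd y' q))⟩ :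
      A'.P.left ⟶ X₀.left) = m := hterm.hom_ext _ _
  let q₀ := AlgSt.quotMap K G (AlgSt.trivAction G)
  obtain ⟨eq⟩ := exists_quotMap_iso (aX := AlgSt.trivAction G)
  let M := fpMap (F := y') (G := q) (F' := y) (G' := q₀) (BasedFunctor.id _) (BasedFunctor.id _)
    (E (AlgSt.trivAction G)) (Iso.refl _) eq.symm
  have : (BasedFunctor.id (AlgSt.ofSp X₀.left)).toFunctor.Faithful := inferInstanceAs (Functor.Faithful (𝟭 _))
  have : (BasedFunctor.id (AlgSt.ofSp X₀.left)).toFunctor.Full := inferInstanceAs (Functor.Full (𝟭 _))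
  have : (E (AlgSt.trivAction G)).toFunctor.Full := full_of_isEquivOver isEquivOver_E
  have hM : IsEquivOver M := fpMap_isEquivOver _ _ _ _ _ (isEquivOver_id _) (isEquivOver_id _)
  have hd : AlgSt.RepByAlgSp1 (diag (toSelf (AlgSt.BG K G))) := by
    refine repByAlgSp1_iff_with_top.2 (repByAlgSpWith_mono ((diag_iff_of_equiv_source' _
      (f' := toSelf (AlgSt.BG K G)) _ (isEquivOver_E (aX := AlgSt.trivAction G)) (Iso.refl _)).1
      (SpTors.repByAlgSpWith_diag_of_terminal (aX := actH (AlgSt.trivAction G)) hterm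
      good_lft.bc fppfLocal_lft isAlgSpace_hS (isAlgSpace_toH G)
      (locP_hom Groth.Agent.AlgSpCov.etaleLocal_locallyOfFiniteType inferInstance))) fun _ _ _ _ => trivial)
  have hy1 : AlgSt.RepByAlgSp1 y := (repByAlgSp1_diag_iff hfg).1 hd _ y
  have hq : ∀ {Q : MorphismProperty (AlgSp.Sp S)}, StableBC Q → AlgSp.IsLocalOnBase AlgSp.IsFppfCover Q →
      Q ((toH S).obj G).hom → AlgSt.RepByAlgSpWith Q q₀ := fun hbc hl hQ =>
    QuotBr.repByAlgSpWith_quotMap hbc hl hQ
  have main : ∀ {Q : MorphismProperty (AlgSp.Sp S)}, StableBC Q → AlgSp.IsLocalOnBase AlgSp.IsFppfCover Q →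
      Q ((AlgSp.yon S).map pr) → AlgSt.RepByAlgSpWith Q y := fun {Q} hbc hl hQ => by
    have hmQ : Q m := hbc (isAlgSpace_yon A.P) (isAlgSpace_yon (𝟙_ (Over S))) hA' (isAlgSpace_yon (𝟙_ (Over S)))
      ((AlgSp.yon S).map pr) (𝟙 _) m φP.hom (IsPullback.of_horiz_isIso ⟨(Category.comp_id m).symm⟩) hQ
    have h0 : AlgSt.RepByAlgSpWith Q (BasedFunctor.comp e (fpSnd y' q)) := by
      refine repByAlgSpWith_of_iso _ j.symm ?_
      have := repByAlgSpWith_ofSpMap hbc hA' (isAlgSpace_yon _) m hmQ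
      rw [← hm] at this
      exact this
    have h1 : AlgSt.RepByAlgSpWith Q (fpSnd y' q) :=
      (repByAlgSpWith_iff_of_equiv Q e (BasedFunctor.id _) he (isEquivOver_id _)
        (f := fpSnd y' q) (f' := BasedFunctor.comp e (fpSnd y' q)) (Iso.refl _)).2 h0
    have h1' : AlgSt.RepByAlgSpWith Q (fpSnd y q₀) :=
      (repByAlgSpWith_iff_of_equiv Q M (BasedFunctor.id _) hM (isEquivOver_id _)
        (f := fpSnd y' q) (f' := fpSnd y q₀) (Iso.refl _)).1 h1
    have h2 : AlgSt.RepByAlgSpWith Q (fpFst q₀ y) :=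
      repByAlgSpWith_comp_isEquivOver h1' (fpSwap_isEquivOver q₀ y)
    exact (repByAlgSpWith_iff_fpFst_cover hbc hl hfg (Stk.isFibGrpd_ofPsh _) hy1
        (hq (good_locP Groth.Agent.AlgSpCov.standard_flat).bc (fppfLocal_of_fpqc (Groth.Agent.S10530.result S))
          (locP_hom Groth.Agent.AlgSpCov.etaleLocal_flat inferInstance))
        (hq (good_locP Groth.Agent.AlgSpCov.standard_locallyOfFinitePresentation).bc
          (fppfLocal_of_fpqc (Groth.Agent.S10527.result S))
          (locP_hom Groth.Agent.AlgSpCov.etaleLocal_locallyOfFinitePresentation inferInstance))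
        (hq good_surjective.bc SliceDM.fppfLocal_surjective SpTors.surjective_hom)).2 h2
  refine ⟨main good_smooth.bc (fppfLocal_of_fpqc (Groth.Agent.S10542.result S)) ?_,
    main good_surjective.bc SliceDM.fppfLocal_surjective ?_⟩
  · exact Groth.Agent.AlgSpCov.locP_of_repWith Groth.Agent.AlgSpCov.standard_smooth.etaleLocal
      ((AlgSp.repWith_yon_map_iff _ _).2 (inferInstanceAs (Smooth A.P.hom)))
  · exact isSurjectiveMor_of_repWith ((AlgSp.repWith_yon_map_iff _ _).2 (inferInstanceAs (Surjective A.P.hom)))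

end Groth.Agent.StFib.BGDiag
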