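import Groth.Agent.DiagRig.DiagInj
import Groth.Agent.DiagRig.DSAlgebra
import Groth.Prelude.Def_AlgSt5
import Groth.Prelude.Def_Red2

/-!
# The torsor of an isogeny of split tori
-/

set_option autoImplicit false
set_option linter.unusedVariables false
set_option backward.isDefEq.respectTransparency false
set_option backward.isDefEq.respectTransparency.types false

universe u

open CategoryTheory CategoryTheory.Limits AlgebraicGeometry MonoidalCategory CartesianMonoidalCategory MonObj
open Groth.Agent.DiagRig

noncomputable section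

set_option maxHeartbeats 400000

namespace Groth.Agent.StFib.BGDiag

attribute [local instance] Groth.Agent.DiagRig.algΓR

variable {R : Type u} [CommRing R]

theorem diagPt_injective {M : Type} [AddCommGroup M] {Z : Over (Spec (CommRingCat.of R))}
    {s t : Multiplicative M →* Γ(Z.left, ⊤)} (h : diagPt (R := R) s = diagPt t) : s = t := by
  have h1 := congrArg CommaMorphism.left h
  have h2 := toSpecΓ_injective h1
  refine MonoidHom.ext fun m => ?_
  have h3 := congr($h2 (MonoidAlgebra.single m 1))
  exact (lift_one (R := R) s m).symm.trans (h3.trans (lift_one (R := R) t m))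

theorem diagPt_diagMap {M N : Type} [AddCommGroup M] [AddCommGroup N] (φ : M →+ N)
    {Z : Over (Spec (CommRingCat.of R))} (t : Multiplicative N →* Γ(Z.left, ⊤)) :
    diagPt (R := R) t ≫ Red.diagMap R φ = diagPt (t.comp (AddMonoidHom.toMultiplicative φ)) := by
  refine Over.OverMorphism.ext ?_
  rw [Over.comp_left, diagPt_left, diagPt_left]
  refine (Category.assoc _ _ _).trans ?_
  refine congrArg (Z.left.toSpecΓ ≫ ·) ?_
  refine (Spec.map_comp _ _).symm.trans ?_
  refine congrArg Spec.map ?_
  apply CommRingCat.hom_ext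
  apply MonoidAlgebra.ringHom_ext
  · intro r
    simp
  · intro m
    simp

theorem diagMap_mul {M N : Type} [AddCommGroup M] [AddCommGroup N] (φ : M →+ N)
    {Z : Over (Spec (CommRingCat.of R))} (x y : Z ⟶ Red.diag R N) :
    (x * y) ≫ Red.diagMap R φ = x ≫ Red.diagMap R φ * y ≫ Red.diagMap R φ := by
  obtain ⟨s, rfl⟩ := diagPt_surjective x
  obtain ⟨t, rfl⟩ := diagPt_surjective y
  rw [← diagPt_mul, diagPt_diagMap, diagPt_diagMap, diagPt_diagMap, ← diagPt_mul]
  rfl

theorem eq_one_of_eq_mul_self {S : Scheme.{u}} {G : Over S} [GrpObj G] {Y : Over S} (x : Y ⟶ G) (h : x = x * x) :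
    x = 1 :=
  mul_eq_left.mp h.symm

theorem diagPt_one {M : Type} [AddCommGroup M] {Z : Over (Spec (CommRingCat.of R))} :
    diagPt (R := R) (1 : Multiplicative M →* Γ(Z.left, ⊤)) = 1 := by
  refine eq_one_of_eq_mul_self (G := Red.diag R M) _ ?_
  rw [← diagPt_mul, _root_.mul_one]

theorem diagMap_one {M N : Type} [AddCommGroup M] [AddCommGroup N] (φ : M →+ N)
    (Z : Over (Spec (CommRingCat.of R))) :
    (1 : Z ⟶ Red.diag R N) ≫ Red.diagMap R φ = 1 := by
  refine eq_one_of_eq_mul_self (G := Red.diag R M) _ ?_
  rw [← diagMap_mul, _root_.mul_one]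

/-- Translations through a homomorphism of character groups. -/
def actOf {M N : Type} [AddCommGroup M] [AddCommGroup N] (φ : N →+ M) :
    AlgGrp.Action (Red.diag R M) (Red.diag R N) where
  act := (fst _ _ ≫ Red.diagMap R φ) * snd _ _
  one_act := by
    rw [MonObj.comp_mul, whiskerRight_fst_assoc, whiskerRight_snd]
    have e : (fst (𝟙_ (Over (Spec (CommRingCat.of R)))) (Red.diag R N) ≫ η[Red.diag R M]) = 1 := by
      rw [Hom.one_def, toUnit_unique (fst _ _) (toUnit _)]
    rw [← Category.assoc (fst _ _), e, diagMap_one, _root_.one_mul]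
    exact (leftUnitor_hom _).symm
  mul_act := by
    rw [MonObj.comp_mul, whiskerRight_fst_assoc, whiskerRight_snd]
    have e : fst (Red.diag R M ⊗ Red.diag R M) (Red.diag R N) ≫ μ[Red.diag R M] =
        (fst _ _ ≫ fst _ _) * (fst _ _ ≫ snd _ _) := by
      rw [Hom.mul_def, ← comp_lift, lift_fst_snd, Category.comp_id]
    rw [← Category.assoc (fst _ _) μ[Red.diag R M], e, diagMap_mul]
    simp only [MonObj.comp_mul, whiskerLeft_fst_assoc, whiskerLeft_snd, associator_hom_fst_assoc,
      associator_hom_snd_snd, associator_hom_snd_fst_assoc, Category.assoc]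
    rw [_root_.mul_assoc]

theorem lift_actOf {M N : Type} [AddCommGroup M] [AddCommGroup N] (φ : N →+ M)
    {Z : Over (Spec (CommRingCat.of R))} (g : Z ⟶ Red.diag R M) (x : Z ⟶ Red.diag R N) :
    lift g x ≫ (actOf φ).act = g ≫ Red.diagMap R φ * x := by
  simp [actOf, MonObj.comp_mul]

/-- The sublattice of relations. -/
abbrev lat {M N : Type} [AddCommGroup M] [AddCommGroup N] (φ : N →+ M) : Type := φ.ker

theorem isPullback_actOf {M N : Type} [AddCommGroup M] [AddCommGroup N] (φ : N →+ M)
    (hφ : Function.Surjective φ) :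
    IsPullback (actOf (R := R) φ).act (snd (Red.diag R M) (Red.diag R N))
      (Red.diagMap R φ.ker.subtype) (Red.diagMap R φ.ker.subtype) := by
  let ψ := φ.ker.subtype
  have hz : ∀ {Z : Over (Spec (CommRingCat.of R))} (g : Z ⟶ Red.diag R M),
      g ≫ Red.diagMap R φ ≫ Red.diagMap R ψ = 1 := by
    intro Z g
    obtain ⟨t, rfl⟩ := diagPt_surjective g
    rw [← Category.assoc, diagPt_diagMap, diagPt_diagMap]
    have : (t.comp (AddMonoidHom.toMultiplicative φ)).comp (AddMonoidHom.toMultiplicative ψ) = 1 :=
      MonoidHom.ext fun l => by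
        change t (Multiplicative.ofAdd (φ (ψ (Multiplicative.toAdd l)))) = 1
        rw [show φ (ψ (Multiplicative.toAdd l)) = 0 from (Multiplicative.toAdd l).2]
        exact map_one t
    rw [this]
    exact diagPt_one
  have key : ∀ {Z : Over (Spec (CommRingCat.of R))} (a b : Z ⟶ Red.diag R N),
      a ≫ Red.diagMap R ψ = b ≫ Red.diagMap R ψ →
      ∃! g : Z ⟶ Red.diag R M, g ≫ Red.diagMap R φ * b = a := by
    intro Z a b e
    obtain ⟨s, rfl⟩ := diagPt_surjective a
    obtain ⟨t, rfl⟩ := diagPt_surjective b
    rw [diagPt_diagMap, diagPt_diagMap] at e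
    have e' := fun l => congr($(diagPt_injective e) (Multiplicative.ofAdd l))
    let d : Multiplicative N →* Γ(Z.left, ⊤) :=
      s * t.comp (AddMonoidHom.toMultiplicative (-AddMonoidHom.id N))
    have tinv : ∀ n : Multiplicative N, t n * t n⁻¹ = 1 := fun n => by rw [← map_mul, mul_inv_cancel, map_one]
    have dd : ∀ n, d n = s n * t n⁻¹ := fun n => rfl
    have dker : ∀ n : N, φ n = 0 → d (Multiplicative.ofAdd n) = 1 := fun n hn => by
      rw [dd, show s (Multiplicative.ofAdd n) = t (Multiplicative.ofAdd n) from e' ⟨n, hn⟩, tinv]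
    choose sec hsec using hφ
    have dcongr : ∀ n n' : N, φ n = φ n' → d (Multiplicative.ofAdd n) = d (Multiplicative.ofAdd n') := fun n n' hn => by
      rw [show n = (n - n') + n' by abel, ofAdd_add, map_mul, dker _ (by rw [map_sub, hn, sub_self]), _root_.one_mul]
    let d' : Multiplicative M →* Γ(Z.left, ⊤) :=
      { toFun := fun m => d (Multiplicative.ofAdd (sec (Multiplicative.toAdd m)))
        map_one' := by
          rw [dcongr _ 0 (by rw [hsec, map_zero]; rfl), ofAdd_zero, map_one]
        map_mul' := fun m m' => by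
          rw [← map_mul, ← ofAdd_add]
          exact dcongr _ _ (by rw [map_add, hsec, hsec, hsec]; rfl) }
    refine ⟨diagPt d', ?_, fun g hg => ?_⟩
    · change diagPt d' ≫ Red.diagMap R φ * _ = _
      rw [diagPt_diagMap, ← diagPt_mul]
      refine congrArg diagPt (MonoidHom.ext fun n => ?_)
      change d (Multiplicative.ofAdd (sec (φ (Multiplicative.toAdd n)))) * t n = s n
      rw [dcongr _ (Multiplicative.toAdd n) (hsec _), ofAdd_toAdd, dd, _root_.mul_assoc, _root_.mul_comm (t n⁻¹), tinv,
        _root_.mul_one]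
    · obtain ⟨w, rfl⟩ := diagPt_surjective g
      rw [diagPt_diagMap, ← diagPt_mul] at hg
      have hg' := diagPt_injective hg
      refine congrArg diagPt (MonoidHom.ext fun m => ?_)
      change w m = d (Multiplicative.ofAdd (sec (Multiplicative.toAdd m)))
      rw [dd, ← hg']
      change w m = w (Multiplicative.ofAdd (φ (sec (Multiplicative.toAdd m)))) *
        t (Multiplicative.ofAdd (sec (Multiplicative.toAdd m))) * t (Multiplicative.ofAdd (sec (Multiplicative.toAdd m)))⁻¹
      rw [hsec, ofAdd_toAdd, _root_.mul_assoc, tinv, _root_.mul_one]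
  refine ⟨⟨?_⟩, ⟨PullbackCone.IsLimit.mk _ (fun c => lift (key c.fst c.snd c.condition).choose c.snd)
    (fun c => ?_) (fun c => lift_snd _ _) (fun c m h1 h2 => ?_)⟩⟩
  · change ((fst _ _ ≫ Red.diagMap R φ) * snd _ _) ≫ Red.diagMap R ψ = _
    rw [diagMap_mul, Category.assoc, hz, _root_.one_mul]
  · rw [lift_actOf]
    exact (key c.fst c.snd c.condition).choose_spec.1
  · apply CartesianMonoidalCategory.hom_ext
    · rw [lift_fst]
      refine (key c.fst c.snd c.condition).choose_spec.2 _ ?_
      beta_reduce
      rw [← h1, ← h2, ← lift_actOf, ← comp_lift, lift_fst_snd, Category.comp_id]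
    · rw [lift_snd]; exact h2

theorem smooth_diag (k : Type u) [Field k] (N : Type) [AddCommGroup N] [Module.Free ℤ N] [Module.Finite ℤ N] :
    Smooth (Red.diag k N).hom := by
  classical
  let A := MonoidAlgebra k (Multiplicative N)
  have : AddGroup.FG N := Module.Finite.iff_addGroup_fg.1 inferInstance
  have : Algebra.FiniteType k A := inferInstance
  have : Algebra.FinitePresentation k A := Algebra.FinitePresentation.of_finiteType.1 ‹_›
  have : Algebra.FormallySmooth k A := by
    refine Algebra.FormallySmooth.of_comp_surjective fun B _ _ I hI f => ?_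
    let b := Module.Free.chooseBasis ℤ N
    have hu : ∀ i, ∃ x : Bˣ, Ideal.Quotient.mk I (x : B) = f (MonoidAlgebra.of k _ (Multiplicative.ofAdd (b i))) := by
      intro i
      obtain ⟨x, hx⟩ := Ideal.Quotient.mk_surjective (f (MonoidAlgebra.of k _ (Multiplicative.ofAdd (b i))))
      obtain ⟨y, hy⟩ := Ideal.Quotient.mk_surjective (f (MonoidAlgebra.of k _ (Multiplicative.ofAdd (-b i))))
      have h1 : x * y - 1 ∈ I := by
        rw [← Ideal.Quotient.eq_zero_iff_mem, map_sub, map_one, map_mul, hx, hy, ← map_mul, ← map_mul,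
          ← ofAdd_add, add_neg_cancel, ofAdd_zero, map_one, map_one, sub_self]
      have hn : IsNilpotent (x * y - 1) := ⟨2, by
        have := Ideal.pow_mem_pow h1 2
        rwa [hI] at this⟩
      have hxy : IsUnit (x * y) := by
        have := hn.isUnit_one_add
        rwa [add_sub_cancel] at this
      exact ⟨(isUnit_of_mul_isUnit_left hxy).unit, hx⟩
    choose v hv using hu
    let χ : N →ₗ[ℤ] Additive Bˣ := b.constr ℤ fun i => Additive.ofMul (v i)
    let χ' : Multiplicative N →* B :=
      (Units.coeHom B).comp (AddMonoidHom.toMultiplicativeLeft χ.toAddMonoidHom)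
    refine ⟨MonoidAlgebra.lift k B (Multiplicative N) χ', ?_⟩
    let fu : Multiplicative N →* (B ⧸ I)ˣ := (f.toMonoidHom.comp (MonoidAlgebra.of k (Multiplicative N))).toHomUnits
    have hq : (AddMonoidHom.toMultiplicativeLeft.symm fu).toIntLinearMap =
        ((MonoidHom.toAdditive (Units.map (Ideal.Quotient.mk I).toMonoidHom)).comp χ.toAddMonoidHom).toIntLinearMap := by
      refine b.ext fun i => ?_
      apply Additive.toMul.injective
      apply Units.ext
      change f (MonoidAlgebra.of k _ (Multiplicative.ofAdd (b i))) =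
        Ideal.Quotient.mk I (((Additive.toMul (χ (b i))) : Bˣ) : B)
      rw [show χ (b i) = Additive.ofMul (v i) from b.constr_basis ℤ _ i]
      exact (hv i).symm
    apply MonoidAlgebra.algHom_ext
    · intro m
      have := congrArg (fun l : N →ₗ[ℤ] Additive (B ⧸ I)ˣ => ((Additive.toMul (l (Multiplicative.toAdd m)) : (B ⧸ I)ˣ) : B ⧸ I)) hq
      change f (MonoidAlgebra.of k _ m) = Ideal.Quotient.mk I (χ' m) at this
      change Ideal.Quotient.mk I (MonoidAlgebra.lift k B (Multiplicative N) χ' (MonoidAlgebra.single m 1)) = f (MonoidAlgebra.single m 1)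
      rw [lift_one]
      exact this.symm
    all_goals exact Subsingleton.elim _ _
  have : Algebra.Smooth k A := ⟨inferInstance, inferInstance⟩
  show Smooth (Spec.map (CommRingCat.ofHom (algebraMap k A)))
  rw [HasRingHomProperty.Spec_iff (P := @Smooth)]
  exact RingHom.smooth_algebraMap.2 this

set_option maxHeartbeats 400000 in
/-- The object of the classifying stack of `D(M)` over a torus. -/
theorem exists_obj (k : Type u) [Field k] (M : Type) [AddCommGroup M] [Finite M] :
    ∃ A : AlgSt.QuotObj Scheme.fppfPrecoverage (Red.diag k M) (AlgSt.trivAction (Red.diag k M)),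
      Smooth A.base.hom ∧ Smooth A.P.hom ∧ Surjective A.P.hom := by
  obtain ⟨n, φ, hφ⟩ : ∃ (n : ℕ) (φ : (Fin n → ℤ) →+ M), Function.Surjective φ := by
    have : Module.Finite ℤ M := inferInstance
    obtain ⟨n, l, hl⟩ := Module.Finite.exists_fin' ℤ M
    exact ⟨n, l.toAddMonoidHom, hl⟩
  let N := Fin n → ℤ
  let L := φ.ker
  have : Module.Free ℤ L := inferInstanceAs (Module.Free ℤ (AddSubgroup.toIntSubmodule φ.ker))
  have : Module.Finite ℤ L := inferInstanceAs (Module.Finite ℤ (AddSubgroup.toIntSubmodule φ.ker))
  have hN : Smooth (Red.diag k N).hom := smooth_diag k N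
  have hL : Smooth (Red.diag k L).hom := smooth_diag k L
  let π : Red.diag k N ⟶ Red.diag k L := Red.diagMap k φ.ker.subtype
  have hff := faithfullyFlat_monMap k φ.ker.subtype Subtype.val_injective
  rw [RingHom.FaithfullyFlat.iff_flat_and_comap_surjective] at hff
  have : Flat π.left := HasRingHomProperty.Spec_iff.mpr hff.1
  have : Surjective π.left := ⟨hff.2⟩
  have : LocallyOfFinitePresentation π.left := by
    have : LocallyOfFinitePresentation (π.left ≫ (Red.diag k L).hom) := by rw [Over.w π]; infer_instance
    exact MorphismProperty.of_postcomp (W := @LocallyOfFinitePresentation) (W' := @LocallyOfFiniteType) π.left (Red.diag k L).hom inferInstance this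
  refine ⟨{ base := Red.diag k L
            P := Red.diag k N
            act := actOf φ
            π := π
            cart := isPullback_actOf φ hφ
            loc := ?_
            φ := toUnit _
            eqv := toUnit_unique _ _ }, hL, hN, ⟨fun s => ?_⟩⟩
  · refine ⟨Presieve.singleton π.left, π.left.singleton_mem_fppfPrecoverage, ?_⟩
    rintro S' f ⟨⟩
    exact ⟨𝟙 _, Category.id_comp _⟩
  · have : Nonempty (Red.diag k N).left := by
      have : Nontrivial (MonoidAlgebra k (Multiplicative N)) := inferInstance
      exact inferInstanceAs (Nonempty (PrimeSpectrum (MonoidAlgebra k (Multiplicative N))))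
    exact ⟨this.some, Subsingleton.elim (α := PrimeSpectrum k) _ _⟩

end Groth.Agent.StFib.BGDiag
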