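import Groth.Agent.StFib.BGDiag.TorsorChart
import Groth.Agent.StFib.BGDiag.Torus
import Groth.Agent.StFib.RatLift.Param

/-!
# The classifying stack of a finite diagonalisable group is smooth
-/

set_option autoImplicit false
set_option linter.unusedVariables false
set_option backward.isDefEq.respectTransparency false
set_option backward.isDefEq.respectTransparency.types false

universe u

open CategoryTheory CategoryTheory.Limits AlgebraicGeometry Opposite MonoidalCategory CartesianMonoidalCategory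
  FibCat

namespace Groth.Agent.StFib.BGDiag

variable {S : Scheme.{u}} {𝒳 : AlgSt.Cat S}

/-- A smooth surjective chart with smooth source gives smoothness over the base. -/
theorem locQ_smooth_of_chart {U : Over S} [Smooth U.hom] {y : overCat U ⥤ᵇ 𝒳}
    (hy : AlgSt.RepByAlgSpWith (AlgSp.LocP @Smooth) y) (hys : AlgSt.RepByAlgSpWith AlgSp.IsSurjectiveMor y) :
    AlgSt.LocQ (AlgSp.LocP @Smooth) (toSelf 𝒳) := by
  let T₀ : Over S := Over.mk (𝟙 S)
  let y₀ : overCat T₀ ⥤ᵇ selfOver (C := Over S) := toSelf (overCat T₀)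
  let h : U ⟶ T₀ := Over.homMk U.hom (Category.comp_id _)
  have hu : ∀ {T : Over S} (a b : T ⟶ T₀), a = b := fun a b =>
    Over.OverMorphism.ext (((Category.comp_id _).symm.trans (over_w a)).trans
      ((over_w b).symm.trans (Category.comp_id _)))
  have : y₀.toFunctor.Faithful := ⟨fun h => Over.OverMorphism.ext h⟩
  have : y₀.toFunctor.Full := ⟨fun {a b} g => ⟨Over.homMk g (hu _ _), rfl⟩⟩
  have hE : IsEquivOver y₀ := isEquivOver_mk _ fun (T : Over S) =>
    ⟨Over.mk (Over.homMk T.hom (Category.comp_id _) : T ⟶ T₀), Iso.refl _, Vert.id _⟩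
  obtain ⟨i₁⟩ := exists_iso_toSelf (BasedFunctor.comp y (toSelf 𝒳))
  obtain ⟨i₂⟩ := exists_iso_toSelf (BasedFunctor.comp (AlgSt.overMap h) y₀)
  have hy₀ : AlgSt.RepByAlgSpWith (AlgSp.LocP @Smooth) y₀ := by
    have h0 : AlgSt.RepByAlgSpWith (AlgSp.LocP @Smooth) (AlgSt.overMap (𝟙 T₀)) :=
      RatLift.repByAlgSpWith_overMap Groth.Agent.AlgSpCov.standard_smooth _ (inferInstanceAs (Smooth (𝟙 _)))
    have h1 := SliceDM.repByAlgSpWith_comp_equiv' h0 hE
    obtain ⟨j⟩ := exists_iso_toSelf (BasedFunctor.comp (AlgSt.overMap (𝟙 T₀)) y₀)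
    exact repByAlgSpWith_of_iso _ j h1
  exact ⟨U, T₀, y, y₀, h, i₁ ≪≫ i₂.symm, hy, hys, hy₀,
    Groth.Agent.AlgSpCov.locP_of_repWith Groth.Agent.AlgSpCov.standard_smooth.etaleLocal
      ((AlgSp.repWith_yon_map_iff _ _).2 (inferInstanceAs (Smooth U.hom)))⟩

theorem locQ_smooth_BG (k : Type u) [Field k] (M : Type) [AddCommGroup M] [Finite M] :
    AlgSt.LocQ (AlgSp.LocP @Smooth) (toSelf (AlgSt.BG Scheme.fppfPrecoverage (Red.diag k M))) := by
  obtain ⟨A, hb, hP, hs⟩ := exists_obj k M
  have : AddGroup.FG M := AddGroup.fg_of_finite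
  have : Algebra.FiniteType k (MonoidAlgebra k (Multiplicative M)) := inferInstance
  have : Algebra.FinitePresentation k (MonoidAlgebra k (Multiplicative M)) :=
    Algebra.FinitePresentation.of_finiteType.1 ‹_›
  have : LocallyOfFinitePresentation (Red.diag k M).hom := by
    show LocallyOfFinitePresentation (Spec.map (CommRingCat.ofHom (algebraMap k (MonoidAlgebra k (Multiplicative M)))))
    rw [HasRingHomProperty.Spec_iff (P := @LocallyOfFinitePresentation)]
    exact RingHom.finitePresentation_algebraMap.2 ‹_›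
  have : Flat (Red.diag k M).hom := by
    show Flat (Spec.map (CommRingCat.ofHom (algebraMap k (MonoidAlgebra k (Multiplicative M)))))
    rw [HasRingHomProperty.Spec_iff (P := @Flat)]
    exact RingHom.flat_algebraMap_iff.2 inferInstance
  have : IsAffineHom (Red.diag k M).hom :=
    inferInstanceAs (IsAffineHom (Spec.map (CommRingCat.ofHom (algebraMap k (MonoidAlgebra k (Multiplicative M))))))
  obtain ⟨y, hy, hys⟩ := exists_chart A
  exact locQ_smooth_of_chart hy hys

end Groth.Agent.StFib.BGDiag
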